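import Groth.Agent.H20Comod.Basic
import Mathlib

/-!
# Extension of group-like elements along a surjection of commutative cocommutative Hopf algebras
-/

set_option autoImplicit false

universe u

open TensorProduct CoalgebraStruct

namespace Groth.Agent.H23Char

section Norm

variable {k : Type u} [Field k] {L : Type u} [Field L] [Algebra k L] [Module.Finite k L]
variable {D E : Type u} [CommRing D] [Algebra k D] [CommRing E] [Algebra k E]

theorem norm_map (g : D →ₐ[k] E) (x : D ⊗[k] L) :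
    g (Algebra.norm D x) = Algebra.norm E (Algebra.TensorProduct.map g (AlgHom.id k L) x) := by
  classical
  let b := Module.Free.chooseBasis k L
  rw [Algebra.norm_eq_matrix_det (Algebra.TensorProduct.basis D b),
    Algebra.norm_eq_matrix_det (Algebra.TensorProduct.basis E b)]
  refine (g.map_det _).trans (congrArg Matrix.det ?_)
  ext i j
  simp only [AlgHom.mapMatrix_apply, Matrix.map_apply, Algebra.leftMulMatrix_eq_repr_mul,
    Algebra.TensorProduct.basis_apply]
  rw [show (1 : E) ⊗ₜ[k] b j = Algebra.TensorProduct.map g (AlgHom.id k L) ((1 : D) ⊗ₜ[k] b j) by simp,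
    ← map_mul]
  generalize x * (1 : D) ⊗ₜ[k] b j = y
  induction y using TensorProduct.induction_on with
  | zero => simp
  | tmul a l => simp
  | add y z hy hz => simp [hy, hz]

theorem norm_tmul_one (d : D) : Algebra.norm D (d ⊗ₜ[k] (1 : L)) = d ^ Module.finrank k L := by
  classical
  let b := Module.Free.chooseBasis k L
  rw [show d ⊗ₜ[k] (1 : L) = algebraMap D (D ⊗[k] L) d by rw [Algebra.TensorProduct.algebraMap_apply]; simp,
    Algebra.norm_algebraMap_of_basis (Algebra.TensorProduct.basis D b), Module.finrank_eq_card_basis b]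

end Norm

section Extend

variable {k : Type u} [Field k] {A B : Type u} [CommRing A] [HopfAlgebra k A] [CommRing B] [HopfAlgebra k B]

/-- The product of two functionals on the tensor square. -/
noncomputable def pairF (φ ψ : A →ₗ[k] k) : A ⊗[k] A →ₗ[k] k := LinearMap.mul' k k ∘ₗ TensorProduct.map φ ψ

/-- The convolution of two functionals. -/
noncomputable def conv (φ ψ : A →ₗ[k] k) : A →ₗ[k] k := pairF φ ψ ∘ₗ comul

theorem pairF_tmul (φ ψ : A →ₗ[k] k) (a b : A) : pairF φ ψ (a ⊗ₜ b) = φ a * ψ b := by simp [pairF]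

theorem pairF_comm (φ ψ : A →ₗ[k] k) (z : A ⊗[k] A) :
    pairF φ ψ (TensorProduct.comm k A A z) = pairF ψ φ z := by
  induction z using TensorProduct.induction_on with
  | zero => simp
  | tmul a b => simp [pairF_tmul, mul_comm]
  | add y z hy hz => simp [hy, hz]

theorem pairF_map (π : A →ₐc[k] B) (φ ψ : B →ₗ[k] k) (a : A) :
    conv (φ ∘ₗ (π : A →ₗ[k] B)) (ψ ∘ₗ (π : A →ₗ[k] B)) a = pairF φ ψ (comul (π a)) := by
  rw [← CoalgHomClass.map_comp_comul_apply π a]
  show pairF (φ ∘ₗ (π : A →ₗ[k] B)) (ψ ∘ₗ (π : A →ₗ[k] B)) (comul a) = _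
  generalize comul (R := k) a = z
  induction z using TensorProduct.induction_on with
  | zero => simp
  | tmul a b => simp [pairF_tmul]
  | add y z hy hz => simp [hy, hz]

variable {L : Type u} [CommRing L] [Algebra k L]

/-- Evaluating the first factor. -/
noncomputable def ev (φ : A →ₗ[k] k) : A ⊗[k] L →ₗ[k] L := (TensorProduct.lid k L).toLinearMap ∘ₗ φ.rTensor L

theorem ev_tmul (φ : A →ₗ[k] k) (a : A) (l : L) : ev φ (a ⊗ₜ[k] l) = φ a • l := by simp [ev]

omit [HopfAlgebra k A] in
theorem ev_ext [Algebra k A] {x y : A ⊗[k] L}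
    (h : ∀ φ : A →ₗ[k] k, (TensorProduct.lid k L) (φ.rTensor L x) = (TensorProduct.lid k L) (φ.rTensor L y)) :
    x = y := by
  let b := Module.Free.chooseBasis k A
  apply (TensorProduct.equivFinsuppOfBasisLeft b (N := L)).injective
  ext i
  have : ∀ z : A ⊗[k] L, TensorProduct.equivFinsuppOfBasisLeft b z i =
      (TensorProduct.lid k L) ((b.coord i).rTensor L z) := by
    intro z
    induction z using TensorProduct.induction_on with
    | zero => simp
    | tmul v a => simp
    | add x y hx hy => simp [hx, hy]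
  rw [this, this]
  exact h _

omit [HopfAlgebra k A] in
theorem ev2_ext [Algebra k A] {x y : (A ⊗[k] A) ⊗[k] L}
    (h : ∀ φ ψ : A →ₗ[k] k, (TensorProduct.lid k L) ((LinearMap.mul' k k ∘ₗ TensorProduct.map φ ψ).rTensor L x) =
      (TensorProduct.lid k L) ((LinearMap.mul' k k ∘ₗ TensorProduct.map φ ψ).rTensor L y)) : x = y := by
  let b := Module.Free.chooseBasis k A
  let bb := b.tensorProduct b
  apply (TensorProduct.equivFinsuppOfBasisLeft bb (N := L)).injective
  ext p
  have : ∀ z : (A ⊗[k] A) ⊗[k] L, TensorProduct.equivFinsuppOfBasisLeft bb z p =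
      (TensorProduct.lid k L)
        ((LinearMap.mul' k k ∘ₗ TensorProduct.map (b.coord p.1) (b.coord p.2)).rTensor L z) := by
    intro z
    induction z using TensorProduct.induction_on with
    | zero => simp
    | tmul v a =>
      have hv : bb.coord p v = (LinearMap.mul' k k ∘ₗ TensorProduct.map (b.coord p.1) (b.coord p.2)) v := by
        induction v using TensorProduct.induction_on with
        | zero => simp
        | tmul x y =>
          simp only [bb, Module.Basis.coord_apply, LinearMap.comp_apply, TensorProduct.map_tmul, LinearMap.mul'_apply]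
          rw [Module.Basis.tensorProduct_repr_tmul_apply, smul_eq_mul, mul_comm]
        | add x y hx hy => rw [map_add, map_add, hx, hy]
      simp only [TensorProduct.equivFinsuppOfBasisLeft_apply_tmul_apply, LinearMap.rTensor_tmul,
        TensorProduct.lid_tmul]
      rw [← hv]
      rfl
    | add x y hx hy => simp [hx, hy]
  rw [this, this]
  exact h _ _

theorem ev2_mul (φ ψ : A →ₗ[k] k) (u v : A ⊗[k] L) :
    (TensorProduct.lid k L) ((pairF φ ψ).rTensor L
      (Algebra.TensorProduct.map (Algebra.TensorProduct.includeLeft : A →ₐ[k] A ⊗[k] A) (AlgHom.id k L) u *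
        Algebra.TensorProduct.map (Algebra.TensorProduct.includeRight : A →ₐ[k] A ⊗[k] A) (AlgHom.id k L) v)) = ev φ u * ev ψ v := by
  induction u using TensorProduct.induction_on with
  | zero => simp
  | add y z hy hz => simp [hy, hz, add_mul]
  | tmul a l =>
    induction v using TensorProduct.induction_on with
    | zero => simp
    | add y z hy hz => rw [map_add, mul_add, map_add, map_add, hy, hz, map_add, mul_add]
    | tmul b m =>
      simp [ev_tmul, pairF_tmul, smul_smul, mul_comm]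

theorem isGroupLikeElem_norm {L : Type u} [Field L] [Algebra k L] [Module.Finite k L] (Ψ : A ⊗[k] L)
    (h1 : Algebra.TensorProduct.map (Bialgebra.counitAlgHom k A) (AlgHom.id k L) Ψ = 1)
    (h3 : Algebra.TensorProduct.map (Bialgebra.comulAlgHom k A) (AlgHom.id k L) Ψ =
      Algebra.TensorProduct.map (Algebra.TensorProduct.includeLeft : A →ₐ[k] A ⊗[k] A) (AlgHom.id k L) Ψ *
        Algebra.TensorProduct.map (Algebra.TensorProduct.includeRight : A →ₐ[k] A ⊗[k] A) (AlgHom.id k L) Ψ) :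
    IsGroupLikeElem k (Algebra.norm A Ψ) where
  counit_eq_one := by
    show Bialgebra.counitAlgHom k A _ = 1
    rw [norm_map, h1, map_one]
  comul_eq_tmul_self := by
    show Bialgebra.comulAlgHom k A _ = _
    rw [norm_map, h3, map_mul, ← norm_map (Algebra.TensorProduct.includeLeft : A →ₐ[k] A ⊗[k] A),
      ← norm_map (Algebra.TensorProduct.includeRight : A →ₐ[k] A ⊗[k] A)]
    simp

theorem exists_groupLike_pow (π : A →ₐc[k] B) (hπ : Function.Surjective π)
    (hcomm : ∀ a : A, TensorProduct.comm k A A (comul a) = comul a) {χ : B} (hχ : IsGroupLikeElem k χ) :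
    ∃ N, N ≠ 0 ∧ (IsAlgClosed k → N = 1) ∧ ∃ ψ : A, IsGroupLikeElem k ψ ∧ π ψ = χ ^ N := by
  classical
  obtain ⟨f, hf⟩ := hπ χ
  obtain ⟨E, hEf, hfE, hE⟩ := H20Comod.exists_finite_subcomod (k := k) (A := A) (V := A) (Set.finite_singleton f)
  let b := Module.Free.chooseBasis k E
  obtain ⟨m, hm, hcm, hcu⟩ := H20Comod.exists_matCoeff_of_isSubcomod hE b
  -- the matrix of a functional
  let Mat : (A →ₗ[k] k) →ₗ[k] Matrix _ _ k :=
    { toFun := fun φ => Matrix.of fun i j => φ (m i j)
      map_add' := fun φ ψ => by ext i j; simp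
      map_smul' := fun c φ => by ext i j; simp }
  have hMatA : ∀ φ i j, Mat φ i j = φ (m i j) := fun _ _ _ => rfl
  have hMul : ∀ φ ψ, Mat (conv φ ψ) = Mat φ * Mat ψ := by
    intro φ ψ
    ext i j
    simp [Matrix.mul_apply, hMatA, conv, hcm, pairF_tmul]
  have hOne : Mat (counit (R := k) (A := A)) = 1 := by
    ext i j
    simp [hMatA, hcu, Matrix.one_apply]
  have hC : ∀ φ ψ, Mat φ * Mat ψ = Mat ψ * Mat φ := by
    intro φ ψ
    rw [← hMul, ← hMul]
    congr 1
    ext a
    simp only [conv, LinearMap.comp_apply]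
    conv_lhs => rw [← hcomm a]
    exact pairF_comm φ ψ _
  -- recovering `f`
  let lam : Matrix _ _ k →ₗ[k] k :=
    { toFun := fun M => ∑ j, b.repr ⟨f, hfE rfl⟩ j * ∑ i, counit (R := k) (b i : A) * M i j
      map_add' := fun M N => by simp [mul_add, Finset.sum_add_distrib]
      map_smul' := fun c M => by
        simp only [Matrix.smul_apply, smul_eq_mul, RingHom.id_apply, Finset.mul_sum]
        exact Finset.sum_congr rfl fun j _ => Finset.sum_congr rfl fun i _ => by ring }
  have hlam : ∀ φ : A →ₗ[k] k, lam (Mat φ) = φ f := by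
    intro φ
    have hkey : ∀ j, (b j : A) = ∑ i, counit (R := k) (b i : A) • m i j := by
      intro j
      have h2 : CoalgebraStruct.comul (R := k) (b j : A) = ∑ i, (b i : A) ⊗ₜ[k] m i j := hm j
      have := congrArg (TensorProduct.lid k A) (Coalgebra.rTensor_counit_comul (R := k) (b j : A))
      rw [h2] at this
      simp only [map_sum, LinearMap.rTensor_tmul, TensorProduct.lid_tmul, one_smul] at this
      exact this.symm
    conv_rhs =>
      rw [show f = ((∑ j, b.repr ⟨f, hfE rfl⟩ j • b j : E) : A) by rw [b.sum_repr]]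
    simp only [AddSubmonoidClass.coe_finset_sum, SetLike.val_smul, map_sum, map_smul, smul_eq_mul]
    show ∑ j, _ = _
    refine Finset.sum_congr rfl fun j _ => ?_
    congr 1
    conv_rhs => rw [hkey j]
    simp [hMatA]
  -- the algebra of the coefficient coalgebra and its subalgebra coming from `B`
  let 𝓐 : Subalgebra k (Matrix _ _ k) := (LinearMap.range Mat).toSubalgebra ⟨_, hOne⟩ (by
    rintro _ _ ⟨φ, rfl⟩ ⟨ψ, rfl⟩
    exact ⟨_, hMul φ ψ⟩)
  let pull : (B →ₗ[k] k) →ₗ[k] (A →ₗ[k] k) := LinearMap.lcomp k k (π : A →ₗ[k] B)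
  have hcu' : pull (counit (R := k) (A := B)) = counit (R := k) (A := A) := by
    ext a
    exact CoalgHomClass.counit_comp_apply π a
  have hconv : ∀ φ ψ : B →ₗ[k] k, pull (pairF φ ψ ∘ₗ comul) = conv (pull φ) (pull ψ) := by
    intro φ ψ
    ext a
    exact (pairF_map π φ ψ a).symm
  let 𝓑 : Subalgebra k (Matrix _ _ k) := (LinearMap.range (Mat ∘ₗ pull)).toSubalgebra
    ⟨_, (congrArg Mat hcu').trans hOne⟩ (by
      rintro _ _ ⟨φ, rfl⟩ ⟨ψ, rfl⟩
      exact ⟨pairF φ ψ ∘ₗ comul, (congrArg Mat (hconv φ ψ)).trans (hMul _ _)⟩)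
  letI cA : CommRing 𝓐 := { (inferInstance : Ring 𝓐) with
    mul_comm := by
      rintro ⟨_, φ, rfl⟩ ⟨_, ψ, rfl⟩
      exact Subtype.ext (hC φ ψ) }
  letI cB : CommRing 𝓑 := { (inferInstance : Ring 𝓑) with
    mul_comm := by
      rintro ⟨_, φ, rfl⟩ ⟨_, ψ, rfl⟩
      exact Subtype.ext (hC (pull φ) (pull ψ)) }
  let e : 𝓑 →ₐ[k] k := AlgHom.ofLinearMap (lam ∘ₗ 𝓑.val.toLinearMap) (by
      show lam (1 : Matrix _ _ k) = 1
      rw [← hOne, hlam, ← CoalgHomClass.counit_comp_apply π f, hf, hχ.counit_eq_one])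
    (by
      rintro ⟨_, φ, rfl⟩ ⟨_, ψ, rfl⟩
      show lam (Mat (pull φ) * Mat (pull ψ)) = lam (Mat (pull φ)) * lam (Mat (pull ψ))
      rw [← hMul, ← hconv, hlam, hlam, hlam]
      show pairF φ ψ (comul (π f)) = φ (π f) * ψ (π f)
      rw [hf, hχ.comul_eq_tmul_self, pairF_tmul])
  have hBA : 𝓑 ≤ 𝓐 := by
    rintro _ ⟨φ, rfl⟩
    exact ⟨pull φ, rfl⟩
  letI : Algebra 𝓑 𝓐 := (Subalgebra.inclusion hBA).toRingHom.toAlgebra
  haveI : IsScalarTower k 𝓑 𝓐 := IsScalarTower.of_algebraMap_eq fun r => ((Subalgebra.inclusion hBA).commutes r).symm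
  haveI : Module.Finite k 𝓐 := inferInstanceAs (Module.Finite k (Subalgebra.toSubmodule 𝓐))
  haveI : Module.Finite 𝓑 𝓐 := Module.Finite.of_restrictScalars_finite k 𝓑 𝓐
  have he : Function.Surjective e := fun r => ⟨algebraMap k 𝓑 r, e.commutes r⟩
  haveI : (RingHom.ker e).IsMaximal := RingHom.ker_isMaximal_of_surjective e he
  obtain ⟨𝔪, h𝔪, hcomap⟩ := Ideal.exists_ideal_over_maximal_of_isIntegral (S := 𝓐) (RingHom.ker e)
    (le_of_eq_of_le ((RingHom.injective_iff_ker_eq_bot _).1 (Subalgebra.inclusion_injective hBA)) bot_le)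
  letI : Field (𝓐 ⧸ 𝔪) := Ideal.Quotient.field 𝔪
  let θ : 𝓐 →ₐ[k] 𝓐 ⧸ 𝔪 := Ideal.Quotient.mkₐ k 𝔪
  have hθ : ∀ x : 𝓑, θ (Subalgebra.inclusion hBA x) = algebraMap k _ (e x) := by
    intro x
    have : x - algebraMap k 𝓑 (e x) ∈ RingHom.ker e := by simp
    rw [← hcomap, Ideal.mem_comap, map_sub, ← Ideal.Quotient.eq, RingHom.algebraMap_toAlgebra] at this
    exact this.trans ((congrArg θ ((Subalgebra.inclusion hBA).commutes _)).trans (θ.commutes _))
  obtain ⟨Θ, hΘ⟩ := LinearMap.exists_extend (p := Subalgebra.toSubmodule 𝓐) θ.toLinearMap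
  have hΘA : ∀ φ, Θ (Mat φ) = θ ⟨Mat φ, φ, rfl⟩ := fun φ => LinearMap.congr_fun hΘ ⟨Mat φ, φ, rfl⟩
  let Ψ : A ⊗[k] (𝓐 ⧸ 𝔪) := ∑ i, ∑ j, m i j ⊗ₜ[k] Θ (Matrix.single i j 1)
  have hev : ∀ φ, ev φ Ψ = Θ (Mat φ) := by
    intro φ
    conv_rhs => rw [Matrix.matrix_eq_sum_single (Mat φ)]
    simp only [Ψ, map_sum, ev_tmul]
    refine Finset.sum_congr rfl fun i _ => Finset.sum_congr rfl fun j _ => ?_
    rw [← map_smul, Matrix.smul_single, smul_eq_mul, mul_one, hMatA]
  -- the key identities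
  have h1 : Algebra.TensorProduct.map (Bialgebra.counitAlgHom k A) (AlgHom.id k (𝓐 ⧸ 𝔪)) Ψ = 1 := by
    apply (TensorProduct.lid k (𝓐 ⧸ 𝔪)).injective
    refine Eq.trans ?_ ((hev (counit (R := k))).trans (((hΘA _).trans ?_)))
    · generalize Ψ = z
      induction z using TensorProduct.induction_on with
      | zero => simp
      | tmul a l => simp [ev_tmul]
      | add y z hy hz => simp only [map_add, hy, hz]
    · rw [show (⟨Mat (counit (R := k)), _, rfl⟩ : 𝓐) = 1 from Subtype.ext hOne, map_one]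
      simp [Algebra.TensorProduct.one_def]
  have h2 : Algebra.TensorProduct.map (π : A →ₐ[k] B) (AlgHom.id k (𝓐 ⧸ 𝔪)) Ψ = χ ⊗ₜ[k] 1 := by
    refine ev_ext fun φ => ?_
    refine Eq.trans ?_ (Eq.trans ((hev (pull φ)).trans ((hΘA _).trans (hθ ⟨_, φ, rfl⟩))) ?_)
    · generalize Ψ = z
      induction z using TensorProduct.induction_on with
      | zero => simp
      | tmul a l => simp [ev_tmul, pull]
      | add y z hy hz => simp only [map_add, hy, hz]
    · show algebraMap k _ (lam (Mat (pull φ))) = _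
      rw [hlam]
      simp [pull, hf, Algebra.algebraMap_eq_smul_one]
  have h3 : Algebra.TensorProduct.map (Bialgebra.comulAlgHom k A) (AlgHom.id k (𝓐 ⧸ 𝔪)) Ψ =
      Algebra.TensorProduct.map (Algebra.TensorProduct.includeLeft : A →ₐ[k] A ⊗[k] A) (AlgHom.id k (𝓐 ⧸ 𝔪)) Ψ *
        Algebra.TensorProduct.map (Algebra.TensorProduct.includeRight : A →ₐ[k] A ⊗[k] A) (AlgHom.id k (𝓐 ⧸ 𝔪)) Ψ := by
    refine ev2_ext fun φ ψ => ?_
    show (TensorProduct.lid k _) ((pairF φ ψ).rTensor _ _) = (TensorProduct.lid k _) ((pairF φ ψ).rTensor _ _)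
    rw [ev2_mul, hev, hev, hΘA, hΘA, ← map_mul]
    refine Eq.trans ?_ ((hev (conv φ ψ)).trans ((hΘA _).trans (congrArg θ (Subtype.ext (hMul φ ψ)))))
    generalize Ψ = z
    induction z using TensorProduct.induction_on with
    | zero => simp
    | tmul a l => simp [ev_tmul, conv]
    | add y z hy hz => simp only [map_add, hy, hz]
  haveI : Module.Finite k (𝓐 ⧸ 𝔪) := Module.Finite.of_surjective θ.toLinearMap Ideal.Quotient.mk_surjective
  refine ⟨Module.finrank k (𝓐 ⧸ 𝔪), Module.finrank_pos.ne', fun hk => ?_, Algebra.norm A Ψ,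
    isGroupLikeElem_norm Ψ h1 h3, ?_⟩
  · haveI := hk
    exact (AlgEquiv.ofBijective (Algebra.ofId k (𝓐 ⧸ 𝔪))
      IsAlgClosed.algebraMap_bijective_of_isIntegral).toLinearEquiv.finrank_eq.symm.trans (Module.finrank_self k)
  · show (π : A →ₐ[k] B) _ = _
    rw [norm_map (π : A →ₐ[k] B) Ψ, h2, norm_tmul_one]

end Extend

end Groth.Agent.H23Char
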