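import Groth.Agent.H23Char.Pts
import Groth.Agent.H23Char.Extend
import Groth.Agent.H20Comod.GroupLikeFG

/-!
Characters extend along closed immersions of affine commutative groups up to a power.
-/

set_option autoImplicit false
set_option linter.style.haveILetI false
set_option backward.isDefEq.respectTransparency false

universe u

open CategoryTheory MonoidalCategory CartesianMonoidalCategory MonObj AlgebraicGeometry Opposite

namespace Groth.Agent.H23Char

attribute [-instance] instCommGrpObjSpecAsOverSpec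
attribute [-instance] isCommMonObj_spec_asOver_spec

variable {k : Type u} [Field k] {G H : Over (Spec (CommRingCat.of k))}
  [GrpObj G] [IsCommMonObj G] [GrpObj H] [IsCommMonObj H] [IsAffine G.left] [IsAffine H.left]

local notation "X̂" G => (CGrpSh.pts Scheme.fppfPrecoverage G ⟶ CGrpSh2.Gm Scheme.fppfPrecoverage (Spec (CommRingCat.of k)))

theorem cval_nsmul (φ : X̂ G) (n : ℕ) : cval (n • φ) = cval φ ^ n := by
  induction n with
  | zero => rw [zero_smul, cval_zero, pow_zero]
  | succ n ih => rw [succ_nsmul, cval_add, ih, pow_succ]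

theorem exists_nsmul_mem_range (i : H ⟶ G) [IsMonHom i] [IsClosedImmersion i.left] (φ : X̂ H) :
    ∃ n : ℕ, n ≠ 0 ∧ (IsAlgClosed k → n = 1) ∧
      ∃ ψ : X̂ G, CGrpSh.ptsMap Scheme.fppfPrecoverage i ≫ ψ = n • φ := by
  letI : G.left.Over (Spec (CommRingCat.of k)) := ⟨G.hom⟩
  letI : H.left.Over (Spec (CommRingCat.of k)) := ⟨H.hom⟩
  letI : GrpObj (G.left.asOver (Spec (CommRingCat.of k))) := ‹GrpObj G›
  letI : GrpObj (H.left.asOver (Spec (CommRingCat.of k))) := ‹GrpObj H›
  haveI : IsCommMonObj (G.left.asOver (Spec (CommRingCat.of k))) := ‹IsCommMonObj G›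
  letI : HopfAlgebra k Γ(G.left, ⊤) := H19Grp.AffinePoints.hopfOf (CommRingCat.of k) G.left
  haveI : IsCommMonObj (H.left.asOver (Spec (CommRingCat.of k))) := ‹IsCommMonObj H›
  letI : HopfAlgebra k Γ(H.left, ⊤) := H19Grp.AffinePoints.hopfOf (CommRingCat.of k) H.left
  obtain ⟨α, hα⟩ := H19Grp.AffinePoints.exists_bialgHom (R := CommRingCat.of k) (G := H.left) (H := G.left) i
  have happ : i.left.appTop = CommRingCat.ofHom (α : Γ(G.left, ⊤) →ₐ[k] Γ(H.left, ⊤)).toRingHom := by
    have h := congrArg Scheme.Hom.appTop hα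
    simp only [Scheme.Hom.comp_appTop] at h
    rw [Scheme.isoSpec_hom, Scheme.isoSpec_hom, Scheme.toSpecΓ_appTop, Scheme.toSpecΓ_appTop] at h
    refine (cancel_epi (Scheme.ΓSpecIso Γ(G.left, ⊤)).hom).1 (h.trans ?_)
    exact Scheme.ΓSpecIso_naturality _
  have hsur : Function.Surjective α := by
    have := (IsClosedImmersion.isAffine_surjective_of_isAffine (f := i.left)).2
    rw [happ] at this
    exact this
  haveI : Nontrivial Γ(H.left, ⊤) :=
    (Bialgebra.counitAlgHom k Γ(H.left, ⊤)).toRingHom.domain_nontrivial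
  have hgl : IsGroupLikeElem k (cval φ) := by
    haveI : IsDomain (CommRingCat.of k) := inferInstanceAs (IsDomain k)
    exact isGroupLikeElem_of_isMult (R := CommRingCat.of k) (X := H.left) (isUnit_cval φ) (isMult_cval φ)
  obtain ⟨N, hN, hN1, ψf, hψ, hπ⟩ := exists_groupLike_pow α hsur
    (fun a => comm_comul (R := CommRingCat.of k) (X := G.left) a) hgl
  obtain ⟨ψ, hψv⟩ := exists_cval_eq (K := Scheme.fppfPrecoverage) (G := G)
    (IsUnit.of_mul_eq_one _ hψ.mul_antipode_cancel)
    (isMult_of_comul_eq (R := CommRingCat.of k) (X := G.left) hψ.comul_eq_tmul_self)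
  refine ⟨N, hN, hN1, ψ, cval_injective ?_⟩
  rw [cval_ptsMap_comp, hψv, cval_nsmul, happ]
  exact hπ

theorem fg_characters [LocallyOfFiniteType H.hom] : AddGroup.FG (X̂ H) := by
  classical
  letI : H.left.Over (Spec (CommRingCat.of k)) := ⟨H.hom⟩
  letI : GrpObj (H.left.asOver (Spec (CommRingCat.of k))) := ‹GrpObj H›
  haveI : IsCommMonObj (H.left.asOver (Spec (CommRingCat.of k))) := ‹IsCommMonObj H›
  letI : HopfAlgebra k Γ(H.left, ⊤) := H19Grp.AffinePoints.hopfOf (CommRingCat.of k) H.left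
  haveI : IsDomain (CommRingCat.of k) := inferInstanceAs (IsDomain k)
  haveI : Nontrivial Γ(H.left, ⊤) :=
    (Bialgebra.counitAlgHom k Γ(H.left, ⊤)).toRingHom.domain_nontrivial
  haveI : Algebra.FiniteType k Γ(H.left, ⊤) := by
    have e : Spec.map (CommRingCat.ofHom (algebraMap k Γ(H.left, ⊤))) = H.left.isoSpec.inv ≫ H.hom := by
      refine (congrArg (fun f => Spec.map (CommRingCat.ofHom f))
        (algebraMap_presheafObj (R := CommRingCat.of k) (X := H.left))).trans ?_
      exact Spec.fullyFaithful.map_preimage _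
    have hl : LocallyOfFiniteType (Spec.map (CommRingCat.ofHom (algebraMap k Γ(H.left, ⊤)))) := by
      rw [e]; infer_instance
    rw [HasRingHomProperty.Spec_iff (P := @LocallyOfFiniteType)] at hl
    exact RingHom.finiteType_algebraMap.1 hl
  have hgl : ∀ φ : X̂ H, IsGroupLikeElem k (cval φ) := fun φ =>
    isGroupLikeElem_of_isMult (R := CommRingCat.of k) (X := H.left) (isUnit_cval φ) (isMult_cval φ)
  obtain ⟨T, hTfin, hTX, hXT⟩ := H20Comod.exists_finite_glGroup (k := k) (Set.range (cval : (X̂ H) → Γ(H.left, ⊤)))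
    (Set.forall_mem_range.2 hgl)
  choose P hP using fun t : T => hTX t.2
  haveI := hTfin.to_subtype
  refine ⟨(AddSubgroup.fg_iff _).2 ⟨Set.range P, eq_top_iff.2 fun φ _ => ?_, Set.finite_range P⟩⟩
  suffices h : ∀ x ∈ H20Comod.glGroup k T, ∃ ψ ∈ AddSubgroup.closure (Set.range P), cval ψ = x by
    obtain ⟨ψ, hψ, he⟩ := h _ (hXT ⟨φ, rfl⟩)
    exact cval_injective he ▸ hψ
  intro x hx
  induction hx using Submonoid.closure_induction with
  | mem y hy =>
    rcases hy with hy | ⟨t, ht, rfl⟩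
    · exact ⟨P ⟨y, hy⟩, AddSubgroup.subset_closure ⟨_, rfl⟩, hP _⟩
    · refine ⟨- P ⟨t, ht⟩, neg_mem (AddSubgroup.subset_closure ⟨_, rfl⟩), ?_⟩
      have h1 : cval (- P ⟨t, ht⟩) * t = 1 := by
        calc cval (- P ⟨t, ht⟩) * t = cval (- P ⟨t, ht⟩) * cval (P ⟨t, ht⟩) := by rw [hP]
          _ = 1 := by rw [← cval_add, neg_add_cancel, cval_zero]
      exact left_inv_eq_right_inv h1 ((hP ⟨t, ht⟩) ▸ hgl (P ⟨t, ht⟩)).mul_antipode_cancel
  | one => exact ⟨0, zero_mem _, cval_zero⟩
  | mul y z _ _ hy hz =>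
    obtain ⟨a, ha, rfl⟩ := hy
    obtain ⟨b, hb, rfl⟩ := hz
    exact ⟨a + b, add_mem ha hb, cval_add a b⟩

end Groth.Agent.H23Char
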