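import Groth.Prelude.Def_CGrpSh2
import Groth.Agent.H21Rank1.Coord
import Groth.Agent.H19Grp.AffinePoints
import Mathlib

/-!
Characters of affine commutative group schemes as group-like functions.
-/

set_option autoImplicit false
set_option linter.style.haveILetI false
set_option backward.isDefEq.respectTransparency false

universe u

open CategoryTheory MonoidalCategory CartesianMonoidalCategory MonObj AlgebraicGeometry Opposite TensorProduct

namespace Groth.Agent.H23Char

section Dict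

variable {S : Scheme.{u}} {K : Precoverage Scheme.{u}} [(QuotSh.J K S).Subcanonical]
variable {G H : Over S} [GrpObj G] [IsCommMonObj G] [GrpObj H] [IsCommMonObj H]

/-- A function which is multiplicative for the group law. -/
def IsMult (f : Γ(G.left, ⊤)) : Prop :=
  (μ[G]).left.appTop f = (fst G G).left.appTop f * (snd G G).left.appTop f

/-- The morphism to the multiplicative group given by a character of the sheaf of points. -/
noncomputable def chrOf (φ : CGrpSh.pts K G ⟶ CGrpSh2.Gm K S) : G ⟶ Red.Gm S :=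
  (φ.hom.app (op G) (ULift.up (Additive.ofMul (𝟙 G)))).down.toMul

theorem app_eq (φ : CGrpSh.pts K G ⟶ CGrpSh2.Gm K S) {W : Over S} (x : W ⟶ G) :
    (φ.hom.app (op W) (ULift.up (Additive.ofMul x))).down.toMul = x ≫ chrOf φ := by
  have h := ConcreteCategory.congr_hom (φ.hom.naturality x.op) (ULift.up (Additive.ofMul (𝟙 G)))
  have e : (CGrpSh.pts K G).obj.map x.op (ULift.up (Additive.ofMul (𝟙 G))) = ULift.up (Additive.ofMul x) :=
    ULift.ext _ _ (congrArg Additive.ofMul (Category.comp_id x))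
  exact (congrArg (fun z => (φ.hom.app (op W) z).down.toMul) e).symm.trans
    (congrArg (fun z => z.down.toMul) h)

theorem chrOf_mul (φ : CGrpSh.pts K G ⟶ CGrpSh2.Gm K S) {W : Over S} (x y : W ⟶ G) :
    (x * y) ≫ chrOf φ = (x ≫ chrOf φ) * (y ≫ chrOf φ) := by
  rw [← app_eq φ, ← app_eq φ, ← app_eq φ]
  exact congrArg (fun z => z.down.toMul)
    (map_add (φ.hom.app (op W)).hom (ULift.up (Additive.ofMul x)) (ULift.up (Additive.ofMul y)))

/-- The function of a character. -/
noncomputable def cval (φ : CGrpSh.pts K G ⟶ CGrpSh2.Gm K S) : Γ(G.left, ⊤) := Red.gmFn (chrOf φ)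

theorem isUnit_cval (φ : CGrpSh.pts K G ⟶ CGrpSh2.Gm K S) : IsUnit (cval φ) := H21Rank1.isUnit_gmFn _

theorem eta_eq_one {C : Type*} [Category C] [CartesianMonoidalCategory C] {M : C} [MonObj M] :
    η[M] = (1 : 𝟙_ C ⟶ M) := by
  show η[M] = toUnit _ ≫ η[M]
  rw [toUnit_unit, Category.id_comp]

theorem mul_eq_fst_mul_snd : μ[G] = fst G G * snd G G := by
  show μ[G] = lift (fst G G) (snd G G) ≫ μ[G]
  rw [lift_fst_snd, Category.id_comp]

theorem isMult_cval (φ : CGrpSh.pts K G ⟶ CGrpSh2.Gm K S) : IsMult (cval φ) := by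
  rw [IsMult, cval, ← H21Rank1.gmFn_comp, ← H21Rank1.gmFn_comp, ← H21Rank1.gmFn_comp, ← H21Rank1.gmFn_mul,
    ← chrOf_mul, ← mul_eq_fst_mul_snd]

theorem cval_add (φ ψ : CGrpSh.pts K G ⟶ CGrpSh2.Gm K S) : cval (φ + ψ) = cval φ * cval ψ :=
  H21Rank1.gmFn_mul (chrOf φ) (chrOf ψ)

theorem cval_zero : cval (0 : CGrpSh.pts K G ⟶ CGrpSh2.Gm K S) = 1 := H21Rank1.gmFn_one

theorem cval_injective : Function.Injective (cval : (CGrpSh.pts K G ⟶ CGrpSh2.Gm K S) → _) := by
  intro φ ψ h
  have hc : chrOf φ = chrOf ψ := H21Rank1.gmFn_injective h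
  refine Sheaf.hom_ext (NatTrans.ext (funext fun W => AddCommGrpCat.ext fun z => ULift.ext _ _ ?_))
  exact congrArg Additive.ofMul ((app_eq φ (W := unop W) z.down.toMul).trans
    ((congrArg (z.down.toMul ≫ ·) hc).trans (app_eq ψ (W := unop W) z.down.toMul).symm))

theorem cval_ptsMap_comp (i : H ⟶ G) [IsMonHom i] (φ : CGrpSh.pts K G ⟶ CGrpSh2.Gm K S) :
    cval (CGrpSh.ptsMap K i ≫ φ) = i.left.appTop (cval φ) := by
  rw [cval, cval, ← H21Rank1.gmFn_comp]
  refine congrArg Red.gmFn ?_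
  refine Eq.trans ?_ (app_eq φ i)
  show (φ.hom.app (op H) ((CGrpSh.ptsMap K i).hom.app (op H) (ULift.up (Additive.ofMul (𝟙 H))))).down.toMul = _
  exact congrArg (fun z => (φ.hom.app (op H) z).down.toMul)
    (ULift.ext _ _ (congrArg Additive.ofMul (Category.id_comp i)))

theorem exists_cval_eq {f : Γ(G.left, ⊤)} (hu : IsUnit f) (hf : IsMult f) :
    ∃ φ : CGrpSh.pts K G ⟶ CGrpSh2.Gm K S, cval φ = f := by
  obtain ⟨c, hc⟩ := H21Rank1.gmFn_surjective (S := S) f hu
  have hmul : ∀ {W : Over S} (x y : W ⟶ G), (x * y) ≫ c = (x ≫ c) * (y ≫ c) := by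
    intro W x y
    apply H21Rank1.gmFn_injective
    rw [H21Rank1.gmFn_mul]
    simp only [H21Rank1.gmFn_comp, hc]
    have h1 : (lift x y).left.appTop ((μ[G]).left.appTop f) =
        (lift x y).left.appTop ((fst G G).left.appTop f * (snd G G).left.appTop f) := by rw [hf]
    rw [map_mul] at h1
    have e1 : lift x y ≫ μ[G] = x * y := rfl
    have e2 : lift x y ≫ fst G G = x := lift_fst _ _
    have e3 : lift x y ≫ snd G G = y := lift_snd _ _
    simp only [← H21Rank1.gmFn_comp, ← hc, ← Category.assoc] at h1 ⊢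
    rw [e2, e3, e1] at h1
    exact h1
  haveI : IsMonHom c := by
    refine ⟨?_, ?_⟩
    · rw [eta_eq_one, eta_eq_one]
      refine H21Rank1.gmFn_injective ?_
      have h := congrArg Red.gmFn (hmul (1 : 𝟙_ (Over S) ⟶ G) 1)
      rw [show (1 : 𝟙_ (Over S) ⟶ G) * 1 = 1 from mul_one (1 : 𝟙_ (Over S) ⟶ G), H21Rank1.gmFn_mul] at h
      rw [H21Rank1.gmFn_one]
      exact ((H21Rank1.isUnit_gmFn _).mul_right_inj.1 (h.symm.trans (_root_.mul_one _).symm))
    · rw [mul_eq_fst_mul_snd, hmul]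
      show lift (fst G G ≫ c) (snd G G ≫ c) ≫ μ[Red.Gm S] = _
      congr 1
  refine ⟨CGrpSh.ptsMap K c, ?_⟩
  rw [cval, ← hc]
  exact congrArg Red.gmFn (Category.id_comp c)

end Dict

section Affine

attribute [-instance] instCommGrpObjSpecAsOverSpec
attribute [-instance] isCommMonObj_spec_asOver_spec

variable {R : CommRingCat.{u}} {X : Scheme.{u}} [X.Over (Spec R)] [GrpObj (X.asOver (Spec R))]
  [IsCommMonObj (X.asOver (Spec R))] [IsAffine X]

variable (X) in
/-- The point of `X` with values in an algebra given by a map on functions. -/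
noncomputable def toPt {T : Type u} [CommRing T] [Algebra R T] (x : WithConv (Γ(X, ⊤) →ₐ[R] T)) :
    (Spec (CommRingCat.of T)).asOver (Spec R) ⟶ X.asOver (Spec R) :=
  Spec.mapMulEquiv (R := R) x ≫ X.isoSpec.inv.asOver (Spec R)

theorem isMonHom_isoSpec_inv : IsMonHom (X.isoSpec.inv.asOver (Spec R)) := by
  let iG : X.asOver (Spec R) ≅ (Spec Γ(X, ⊤)).asOver (Spec R) :=
    ⟨X.isoSpec.hom.asOver (Spec R), X.isoSpec.inv.asOver (Spec R),
      Over.OverMorphism.ext X.isoSpec.hom_inv_id, Over.OverMorphism.ext X.isoSpec.inv_hom_id⟩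
  haveI : IsMonHom iG.hom := H19Grp.AffinePoints.isMonHom_isoSpec R X
  exact @instIsMonHomInvOfHom _ _ _ _ _ _ _ iG (H19Grp.AffinePoints.isMonHom_isoSpec R X)

theorem toPt_mul {T : Type u} [CommRing T] [Algebra R T] (x y : WithConv (Γ(X, ⊤) →ₐ[R] T)) :
    toPt X (x * y) = toPt X x * toPt X y := by
  haveI := isMonHom_isoSpec_inv (R := R) (X := X)
  rw [toPt, map_mul, MonObj.mul_comp]
  rfl

theorem toPt_appTop {T : Type u} [CommRing T] [Algebra R T] (x : WithConv (Γ(X, ⊤) →ₐ[R] T)) (a : Γ(X, ⊤)) :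
    (Scheme.ΓSpecIso (CommRingCat.of T)).hom ((toPt X x).left.appTop a) = x.ofConv a := by
  have h1 : (toPt X x).left.appTop ≫ (Scheme.ΓSpecIso (CommRingCat.of T)).hom =
      CommRingCat.ofHom x.ofConv.toRingHom := by
    show (Spec.map (CommRingCat.ofHom x.ofConv.toRingHom) ≫ X.isoSpec.inv).appTop ≫ _ = _
    rw [Scheme.Hom.comp_appTop, Category.assoc, Scheme.ΓSpecIso_naturality, ← Category.assoc]
    have : X.isoSpec.inv.appTop ≫ (Scheme.ΓSpecIso Γ(X, ⊤)).hom = 𝟙 _ := by
      have h2 : X.isoSpec.inv.appTop ≫ X.isoSpec.hom.appTop = 𝟙 _ := by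
        rw [← Scheme.Hom.comp_appTop, X.isoSpec.hom_inv_id, Scheme.Hom.id_appTop]
      rw [← Scheme.toSpecΓ_appTop]
      exact h2
    exact (congrArg (· ≫ CommRingCat.ofHom x.ofConv.toRingHom) this).trans (Category.id_comp _)
  exact ConcreteCategory.congr_hom h1 a

theorem toPt_surjective {T : Type u} [CommRing T] [Algebra R T] :
    Function.Surjective (toPt X : WithConv (Γ(X, ⊤) →ₐ[R] T) → _) := by
  intro p
  obtain ⟨x, hx⟩ := (Spec.mapMulEquiv (R := R) (S := Γ(X, ⊤)) (T := T)).surjective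
    (p ≫ X.isoSpec.hom.asOver (Spec R))
  refine ⟨x, ?_⟩
  rw [toPt, hx, Category.assoc]
  refine (congrArg (p ≫ ·) (show X.isoSpec.hom.asOver (Spec R) ≫ X.isoSpec.inv.asOver (Spec R) = 𝟙 _ from
    Over.OverMorphism.ext X.isoSpec.hom_inv_id)).trans (Category.comp_id p)

theorem convMul_includes (a : Γ(X, ⊤)) :
    (WithConv.toConv (Algebra.TensorProduct.includeLeft : Γ(X, ⊤) →ₐ[R] Γ(X, ⊤) ⊗[R] Γ(X, ⊤)) *
      WithConv.toConv Algebra.TensorProduct.includeRight).ofConv a = CoalgebraStruct.comul (R := R) a := by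
  simp only [AlgHom.convMul_def, WithConv.ofConv_toConv, AlgHom.comp_apply]
  rw [show (Bialgebra.comulAlgHom R Γ(X, ⊤)) a = CoalgebraStruct.comul (R := R) a from rfl]
  generalize CoalgebraStruct.comul (R := R) a = z
  induction z using TensorProduct.induction_on with
  | zero => simp
  | tmul p q => simp
  | add p q hp hq => simp only [_root_.map_add, hp, hq]

theorem comm_comul (a : Γ(X, ⊤)) :
    TensorProduct.comm R Γ(X, ⊤) Γ(X, ⊤) (CoalgebraStruct.comul (R := R) a) = CoalgebraStruct.comul (R := R) a := by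
  haveI := isMonHom_isoSpec_inv (R := R) (X := X)
  let il := WithConv.toConv (Algebra.TensorProduct.includeLeft : Γ(X, ⊤) →ₐ[R] Γ(X, ⊤) ⊗[R] Γ(X, ⊤))
  let ir := WithConv.toConv (Algebra.TensorProduct.includeRight : Γ(X, ⊤) →ₐ[R] Γ(X, ⊤) ⊗[R] Γ(X, ⊤))
  have h : (il * ir).ofConv a = (ir * il).ofConv a := by
    rw [← toPt_appTop (il * ir), ← toPt_appTop (ir * il), toPt_mul, toPt_mul, mul_comm]
  rw [convMul_includes] at h
  conv_rhs => rw [h]
  simp only [AlgHom.convMul_def, il, ir, AlgHom.comp_apply]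
  rw [show (Bialgebra.comulAlgHom R Γ(X, ⊤)) a = CoalgebraStruct.comul (R := R) a from rfl]
  generalize CoalgebraStruct.comul (R := R) a = z
  induction z using TensorProduct.induction_on with
  | zero => simp
  | tmul p q => simp
  | add p q hp hq => simp only [_root_.map_add, hp, hq]

theorem comul_eq_of_isMult {f : Γ(X, ⊤)} (hf : IsMult (G := X.asOver (Spec R)) f) :
    CoalgebraStruct.comul (R := R) f = f ⊗ₜ[R] f := by
  let il := WithConv.toConv (Algebra.TensorProduct.includeLeft : Γ(X, ⊤) →ₐ[R] Γ(X, ⊤) ⊗[R] Γ(X, ⊤))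
  let ir := WithConv.toConv (Algebra.TensorProduct.includeRight : Γ(X, ⊤) →ₐ[R] Γ(X, ⊤) ⊗[R] Γ(X, ⊤))
  rw [← convMul_includes, ← toPt_appTop (il * ir), toPt_mul]
  have h1 : (toPt X il * toPt X ir).left.appTop f =
      (lift (toPt X il) (toPt X ir)).left.appTop ((μ[X.asOver (Spec R)]).left.appTop f) := rfl
  rw [h1, hf, map_mul, map_mul]
  have e2 : lift (toPt X il) (toPt X ir) ≫ fst _ _ = toPt X il := lift_fst _ _
  have e3 : lift (toPt X il) (toPt X ir) ≫ snd _ _ = toPt X ir := lift_snd _ _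
  refine Eq.trans (congrArg₂ (fun p q => p * q) (congrArg (fun m => (Scheme.ΓSpecIso _).hom (m.left.appTop f)) e2)
    (congrArg (fun m => (Scheme.ΓSpecIso _).hom (m.left.appTop f)) e3)) ?_
  rw [toPt_appTop, toPt_appTop]
  simp [il, ir]

theorem isMult_of_comul_eq {f : Γ(X, ⊤)} (hf : CoalgebraStruct.comul (R := R) f = f ⊗ₜ[R] f) :
    IsMult (G := X.asOver (Spec R)) f := by
  let W := X.asOver (Spec R) ⊗ X.asOver (Spec R)
  letI : W.left.Over (Spec R) := ⟨W.hom⟩
  haveI : IsAffine (X.asOver (Spec R)).left := ‹IsAffine X›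
  haveI : IsAffine W.left := inferInstanceAs (IsAffine (Limits.pullback _ _))
  let j : (Spec Γ(W.left, ⊤)).asOver (Spec R) ⟶ W := W.left.isoSpec.inv.asOver (Spec R)
  have hj : Function.Injective j.left.appTop := by
    show Function.Injective W.left.isoSpec.inv.appTop
    exact (ConcreteCategory.bijective_of_isIso W.left.isoSpec.inv.appTop).1
  obtain ⟨x, hx⟩ := toPt_surjective (X := X) (T := Γ(W.left, ⊤)) (j ≫ fst _ _)
  obtain ⟨y, hy⟩ := toPt_surjective (X := X) (T := Γ(W.left, ⊤)) (j ≫ snd _ _)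
  refine hj ((ConcreteCategory.bijective_of_isIso
    (Scheme.ΓSpecIso (CommRingCat.of Γ(W.left, ⊤))).hom).1 ?_)
  rw [map_mul, map_mul]
  have h1 : toPt X (x * y) = j ≫ μ[X.asOver (Spec R)] := by
    rw [toPt_mul, hx, hy, mul_eq_fst_mul_snd, MonObj.comp_mul]
  refine Eq.trans ((congrArg (fun m => (Scheme.ΓSpecIso _).hom (m.left.appTop f)) h1).symm.trans
    (toPt_appTop (x * y) f)) ?_
  refine Eq.trans ?_ (congrArg₂ (fun p q => p * q)
    ((toPt_appTop x f).symm.trans (congrArg (fun m => (Scheme.ΓSpecIso _).hom (m.left.appTop f)) hx))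
    ((toPt_appTop y f).symm.trans (congrArg (fun m => (Scheme.ΓSpecIso _).hom (m.left.appTop f)) hy)))
  simp only [AlgHom.convMul_def, AlgHom.comp_apply]
  rw [show (Bialgebra.comulAlgHom R Γ(X, ⊤)) f = CoalgebraStruct.comul (R := R) f from rfl, hf]
  simp

theorem isGroupLikeElem_of_isMult [Nontrivial Γ(X, ⊤)] [IsDomain R] [Module.IsTorsionFree R Γ(X, ⊤)]
    {f : Γ(X, ⊤)} (hu : IsUnit f) (hf : IsMult (G := X.asOver (Spec R)) f) : IsGroupLikeElem R f := by
  refine ⟨?_, comul_eq_of_isMult hf⟩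
  have h := congrArg (TensorProduct.lid R Γ(X, ⊤)) (Coalgebra.rTensor_counit_comul (R := R) f)
  rw [comul_eq_of_isMult hf] at h
  simp only [LinearMap.rTensor_tmul, TensorProduct.lid_tmul, one_smul] at h
  exact (smul_left_injective R hu.ne_zero) (h.trans (one_smul R f).symm)

end Affine

end Groth.Agent.H23Char
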